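import Mathlib
import Groth.Agent.Lib.Helper8.HensPair.SmoothLift

set_option autoImplicit false
universe u
open MvPolynomial

namespace Groth.Agent.H8.Elkik

/-- First-order Taylor expansion modulo the square of an ideal containing the increments. -/
theorem taylor_mem_sq {R : Type*} [CommRing R] {S : Type*} [CommRing S] [Algebra R S]
    {σ : Type*} [Fintype σ] (𝔞 : Ideal S) (x d : σ → S) (hd : ∀ k, d k ∈ 𝔞)
    (p : MvPolynomial σ R) :
    aeval (fun k => x k + d k) p - aeval x p - ∑ k, aeval x (pderiv k p) * d k ∈ 𝔞 ^ 2 := by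
  classical
  induction p using MvPolynomial.induction_on with
  | C a => simp
  | add p q hp hq =>
    have : aeval (fun k => x k + d k) (p + q) - aeval x (p + q) -
        ∑ k, aeval x (pderiv k (p + q)) * d k =
        (aeval (fun k => x k + d k) p - aeval x p - ∑ k, aeval x (pderiv k p) * d k) +
        (aeval (fun k => x k + d k) q - aeval x q - ∑ k, aeval x (pderiv k q) * d k) := by
      simp only [map_add, add_mul, Finset.sum_add_distrib]
      ring
    rw [this]
    exact Ideal.add_mem _ hp hq
  | mul_X p i hp =>
    have h1 : ∀ k, aeval x (pderiv k (p * X i)) * d k =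
        aeval x p * ((if i = k then 1 else 0) * d k) + x i * (aeval x (pderiv k p) * d k) := by
      intro k
      rw [Derivation.leibniz, smul_eq_mul, smul_eq_mul, pderiv_X, Pi.single_apply, map_add,
        map_mul, map_mul, aeval_X]
      split_ifs <;> simp <;> ring
    have h2 : ∑ k, (if i = k then (1 : S) else 0) * d k = d i := by
      rw [Finset.sum_eq_single i]
      · simp
      · intro k _ hk; rw [if_neg (Ne.symm hk), zero_mul]
      · simp
    simp only [h1, Finset.sum_add_distrib, ← Finset.mul_sum, h2, map_mul, aeval_X]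
    set T := aeval (fun k => x k + d k) p - aeval x p - ∑ k, aeval x (pderiv k p) * d k with hT
    have h3 : aeval (fun k => x k + d k) p * (x i + d i) - aeval x p * x i -
        (aeval x p * d i + x i * ∑ k, aeval x (pderiv k p) * d k) =
        T * (x i + d i) + (∑ k, aeval x (pderiv k p) * d k) * d i := by
      rw [hT]; ring
    rw [h3]
    refine Ideal.add_mem _ (Ideal.mul_mem_right _ _ hp) ?_
    rw [pow_two]
    exact Ideal.mul_mem_mul (Ideal.sum_mem _ fun k _ => Ideal.mul_mem_left _ _ (hd k)) (hd i)


theorem eval_aeval_comp {A : Type*} [CommRing A] {σ τ : Type*} (φ : σ → MvPolynomial τ A)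
    (y : τ → A) (q : MvPolynomial σ A) :
    eval y (aeval φ q) = eval (fun k => eval y (φ k)) q := by
  induction q using MvPolynomial.induction_on with
  | C a => simp
  | add p q hp hq => simp only [map_add, hp, hq]
  | mul_X p i hp => simp only [map_mul, aeval_X, eval_X, hp]

theorem aeval_C_eq {A : Type*} [CommRing A] {σ τ : Type*} (a : σ → A) (q : MvPolynomial σ A) :
    aeval (fun k => (C (a k) : MvPolynomial τ A)) q = C (eval a q) := by
  induction q using MvPolynomial.induction_on with
  | C a => simp
  | add p q hp hq => simp only [map_add, hp, hq]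
  | mul_X p i hp => simp only [map_mul, aeval_X, eval_X, hp]

/-- Tougeron-type Hensel lemma for a henselian pair `(A, tA)`: if the Jacobian of `f` at `a` has a
right inverse up to `t ^ h` and `f a ≡ 0 mod t ^ n` with `n > 2 h`, there is an exact solution
congruent to `a` modulo `t ^ (n - h)`. -/
theorem exists_solution_of_tougeron {A : Type u} [CommRing A] (t : A)
    [HenselianRing A (Ideal.span {t})] {ι : Type} [Fintype ι] (m : ℕ)
    (f : Fin m → MvPolynomial ι A) (a : ι → A) (W : ι → Fin m → A) (Z : Fin m → Fin m → A)
    (h n : ℕ) (hn : 2 * h < n)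
    (hW : ∀ i j, ∑ k, eval a (pderiv k (f i)) * W k j =
      t ^ h * ((if i = j then 1 else 0) + t * Z i j))
    (hf : ∀ i, eval a (f i) ∈ Ideal.span {t ^ n}) :
    ∃ a' : ι → A, (∀ i, eval a' (f i) = 0) ∧ ∀ k, a' k - a k ∈ Ideal.span {t ^ (n - h)} := by
  classical
  have hf' : ∀ i, ∃ u, u * t ^ n = eval a (f i) := fun i => Ideal.mem_span_singleton'.mp (hf i)
  choose u hu using hf'
  let S := MvPolynomial (Fin m) A
  let x : ι → S := fun k => C (a k)
  let d : ι → S := fun k => C (t ^ (n - h)) * ∑ l, C (W k l) * X l
  let 𝔞 : Ideal S := Ideal.span {C (t ^ (n - h))}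
  have hd : ∀ k, d k ∈ 𝔞 := fun k => Ideal.mul_mem_right _ _ (Ideal.subset_span rfl)
  have htay : ∀ i, ∃ R : S, R * (C (t ^ (n - h))) ^ 2 =
      aeval (fun k => x k + d k) (f i) - aeval x (f i) -
        ∑ k, aeval x (pderiv k (f i)) * d k := by
    intro i
    have := taylor_mem_sq 𝔞 x d hd (f i)
    rw [Ideal.span_singleton_pow] at this
    exact Ideal.mem_span_singleton'.mp this
  choose R hR using htay
  let G : Fin m → S := fun i =>
    C (u i) + X i + C t * ∑ l, C (Z i l) * X l + C (t ^ (n - 2 * h)) * R i
  have hnh : n - h + (n - h) = n + (n - 2 * h) := by omega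
  have hnh' : n - h + h = n := by omega
  have hFG : ∀ i, aeval (fun k => x k + d k) (f i) = C (t ^ n) * G i := by
    intro i
    have h1 := hR i
    have h2 : aeval x (f i) = C (u i * t ^ n) := by
      rw [hu i]; exact aeval_C_eq a (f i)
    have h3 : ∑ k, aeval x (pderiv k (f i)) * d k =
        C (t ^ n) * (X i + C t * ∑ l, C (Z i l) * X l) := by
      have h4 : ∀ k, aeval x (pderiv k (f i)) * d k =
          C (t ^ (n - h)) * ∑ l, C (eval a (pderiv k (f i)) * W k l) * X l := by
        intro k
        rw [show aeval x (pderiv k (f i)) = C (eval a (pderiv k (f i))) from aeval_C_eq a _]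
        simp only [d, Finset.mul_sum, map_mul]
        refine Finset.sum_congr rfl fun l _ => ?_
        ring
      simp only [h4]
      rw [← Finset.mul_sum, Finset.sum_comm]
      simp only [← Finset.sum_mul, ← map_sum, hW]
      have h7 : (C (t ^ n) : S) = C (t ^ (n - h)) * C (t ^ h) := by
        rw [← map_mul, ← pow_add, hnh']
      rw [h7, mul_assoc]
      congr 1
      rw [Finset.mul_sum]
      have h5 : ∀ l, C (t ^ h * ((if i = l then 1 else 0) + t * Z i l)) * (X l : S) =
          C (t ^ h) * ((if i = l then X l else 0) + C t * (C (Z i l) * X l)) := by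
        intro l
        simp only [map_mul, map_add]
        split_ifs <;> simp <;> ring
      simp only [h5]
      rw [← Finset.mul_sum, Finset.sum_add_distrib, Finset.sum_ite_eq, if_pos (Finset.mem_univ i),
        ← Finset.mul_sum]
    have h6 : aeval (fun k => x k + d k) (f i) =
        aeval x (f i) + ∑ k, aeval x (pderiv k (f i)) * d k + R i * (C (t ^ (n - h))) ^ 2 := by
      rw [h1]; ring
    rw [h6, h2, h3]
    simp only [G]
    rw [pow_two, ← map_mul, ← pow_add, hnh, pow_add]
    simp only [map_mul]
    ring
  -- solve `G = 0` by Hensel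
  let y₀ : Fin m → A := fun i => - u i
  have hI : t ^ (n - 2 * h) ∈ Ideal.span {t} := by
    have : n - 2 * h = (n - 2 * h - 1) + 1 := by omega
    rw [this, pow_succ]
    exact Ideal.mul_mem_left _ _ (Ideal.subset_span rfl)
  have hG₀ : ∀ i, eval y₀ (G i) ∈ Ideal.span {t} := by
    intro i
    simp only [G, map_add, map_mul, eval_C, eval_X, y₀]
    have : u i + -u i + t * eval (fun i => -u i) (∑ l, C (Z i l) * X l) +
        t ^ (n - 2 * h) * eval (fun i => -u i) (R i) =
        t * eval (fun i => -u i) (∑ l, C (Z i l) * X l) +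
        t ^ (n - 2 * h) * eval (fun i => -u i) (R i) := by ring
    rw [this]
    exact Ideal.add_mem _ (Ideal.mul_mem_right _ _ (Ideal.subset_span rfl))
      (Ideal.mul_mem_right _ _ hI)
  have hJ : IsUnit (Ideal.Quotient.mk (Ideal.span {t})
      (Matrix.of (fun i j => eval y₀ (pderiv j (G i)))).det) := by
    have h1 : (Matrix.of (fun i j => eval y₀ (pderiv j (G i)))).map
        (Ideal.Quotient.mk (Ideal.span {t})) = 1 := by
      ext i j
      simp only [Matrix.map_apply, Matrix.of_apply]
      rw [Matrix.one_apply]
      have h2 : pderiv j (G i) = (if i = j then 1 else 0) + C t * C (Z i j) +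
          C (t ^ (n - 2 * h)) * pderiv j (R i) := by
        simp only [G, map_add, pderiv_C, zero_add, Derivation.leibniz, smul_eq_mul, mul_zero,
          add_zero, pderiv_X, map_sum, smul_zero]
        congr 2
        · simp [Pi.single_apply, eq_comm]
        · rw [Finset.sum_eq_single j]
          · simp
          · intro l _ hl
            simp [Pi.single_apply, hl]
          · simp
      rw [h2]
      have h3 : eval y₀ ((if i = j then 1 else 0) + C t * C (Z i j) +
          C (t ^ (n - 2 * h)) * pderiv j (R i)) - (if i = j then 1 else 0) ∈ Ideal.span {t} := by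
        have : eval y₀ ((if i = j then (1 : S) else 0) + C t * C (Z i j) +
          C (t ^ (n - 2 * h)) * pderiv j (R i)) - (if i = j then 1 else 0) =
          t * Z i j + t ^ (n - 2 * h) * eval y₀ (pderiv j (R i)) := by
          simp only [map_add, map_mul, eval_C]
          split_ifs <;> simp <;> ring
        rw [this]
        exact Ideal.add_mem _ (Ideal.mul_mem_right _ _ (Ideal.subset_span rfl))
          (Ideal.mul_mem_right _ _ hI)
      rw [Ideal.Quotient.eq.mpr h3]
      split_ifs <;> simp
    rw [RingHom.map_det, RingHom.mapMatrix_apply, h1, Matrix.det_one]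
    exact isUnit_one
  obtain ⟨y, hy, hy0⟩ := Groth.Agent.H8.HensPair.exists_solution_of_jacobian A (Ideal.span {t}) m
    G y₀ hG₀ hJ
  refine ⟨fun k => a k + t ^ (n - h) * ∑ l, W k l * y l, fun i => ?_, fun k => ?_⟩
  · have h1 : eval y (aeval (fun k => x k + d k) (f i)) =
        eval (fun k => a k + t ^ (n - h) * ∑ l, W k l * y l) (f i) := by
      rw [eval_aeval_comp]
      congr 2
      funext k
      simp [x, d]
    rw [← h1, hFG, map_mul, hy i, mul_zero]
  · rw [add_sub_cancel_left]
    exact Ideal.mul_mem_right _ _ (Ideal.subset_span rfl)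

end Groth.Agent.H8.Elkik
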