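import Mathlib
import Groth.Agent.Lib.Helper8.Elkik.SmoothData

set_option autoImplicit false
universe u
open MvPolynomial

namespace Groth.Agent.H8.Elkik

variable {A : Type u} [CommRing A]

/-- Smoothness data for the ideal `J` after inverting `t` (what `exists_smooth_data` produces). -/
def HasSmoothData {N : ℕ} (J : Ideal (MvPolynomial (Fin N) A)) (t : A) : Prop :=
  ∃ (m : ℕ) (g : Fin m → MvPolynomial (Fin N) A)
    (c : Fin N → Fin m → MvPolynomial (Fin N) A) (s : ℕ),
    (∀ i, g i ∈ J) ∧ (∀ p ∈ J, ∃ e, C (t ^ e) * p ∈ Ideal.span (Set.range g)) ∧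
    ∀ i, C (t ^ s) * g i - ∑ k, pderiv k (g i) * ∑ j, c k j * g j ∈
      Ideal.span (Set.range g) ^ 2

theorem eval_map_comp {A' : Type*} [CommRing A'] (φ : A →+* A') {N : ℕ} (a : Fin N → A)
    (p : MvPolynomial (Fin N) A) : eval (φ ∘ a) (map φ p) = φ (eval a p) := by
  rw [eval_map]
  have h := eval₂_comp_left φ (RingHom.id A) a p
  rw [eval₂_id, RingHom.comp_id] at h
  exact h.symm

theorem hasSmoothData_of_smooth (t : A) {B : Type u} [CommRing B] [Algebra A B]
    (Bt : Type u) [CommRing Bt] [Algebra B Bt] [Algebra A Bt] [IsScalarTower A B Bt]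
    [IsLocalization.Away (algebraMap A B t) Bt] [Algebra.Smooth A Bt]
    {N : ℕ} (π : MvPolynomial (Fin N) A →ₐ[A] B) (hπ : Function.Surjective π) :
    HasSmoothData (RingHom.ker π.toRingHom) t := by
  obtain ⟨m, g, c, s, hg, hJ, hrel⟩ := exists_smooth_data t Bt π hπ
  exact ⟨m, g, c, s, fun i => hg i, fun p hp => hJ p hp, hrel⟩

theorem HasSmoothData.map {A' : Type u} [CommRing A'] (φ : A →+* A') {N : ℕ}
    {J : Ideal (MvPolynomial (Fin N) A)} {t : A} (h : HasSmoothData J t) :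
    HasSmoothData (J.map (MvPolynomial.map φ)) (φ t) := by
  classical
  obtain ⟨m, g, c, s, hg, hJ, hrel⟩ := h
  let Φ : MvPolynomial (Fin N) A →+* MvPolynomial (Fin N) A' := MvPolynomial.map φ
  have hspan : (Ideal.span (Set.range g)).map Φ = Ideal.span (Set.range fun i => Φ (g i)) := by
    rw [Ideal.map_span, ← Set.range_comp]
    rfl
  refine ⟨m, fun i => Φ (g i), fun k j => Φ (c k j), s, fun i => Ideal.mem_map_of_mem _ (hg i),
    ?_, fun i => ?_⟩
  · intro p hp
    refine Submodule.span_induction (p := fun p _ => ∃ e, C (φ t ^ e) * p ∈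
      Ideal.span (Set.range fun i => Φ (g i))) ?_ ?_ ?_ ?_ hp
    · rintro _ ⟨p₀, hp₀, rfl⟩
      obtain ⟨e, he⟩ := hJ p₀ hp₀
      refine ⟨e, ?_⟩
      have h1 := Ideal.mem_map_of_mem Φ he
      rw [hspan, map_mul] at h1
      have h2 : Φ (C (t ^ e)) = C (φ t ^ e) := by
        show MvPolynomial.map φ (C (t ^ e)) = _
        rw [map_C, map_pow]
      rwa [h2] at h1
    · exact ⟨0, by simp⟩
    · rintro x y _ _ ⟨e₁, h₁⟩ ⟨e₂, h₂⟩
      refine ⟨e₁ + e₂, ?_⟩
      have : C (φ t ^ (e₁ + e₂)) * (x + y) =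
          C (φ t ^ e₂) * (C (φ t ^ e₁) * x) + C (φ t ^ e₁) * (C (φ t ^ e₂) * y) := by
        rw [pow_add, C_mul]; ring
      rw [this]
      exact Ideal.add_mem _ (Ideal.mul_mem_left _ _ h₁) (Ideal.mul_mem_left _ _ h₂)
    · rintro q x _ ⟨e, he⟩
      refine ⟨e, ?_⟩
      rw [smul_eq_mul, mul_left_comm]
      exact Ideal.mul_mem_left _ _ he
  · have h1 := Ideal.mem_map_of_mem Φ (hrel i)
    rw [Ideal.map_pow, hspan] at h1
    have h2 : Φ (C (t ^ s) * g i - ∑ k, pderiv k (g i) * ∑ j, c k j * g j) =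
        C (φ t ^ s) * Φ (g i) - ∑ k, pderiv k (Φ (g i)) * ∑ j, Φ (c k j) * Φ (g j) := by
      rw [map_sub, map_mul, map_sum]
      have hC : Φ (C (t ^ s)) = C (φ t ^ s) := by
        show MvPolynomial.map φ (C (t ^ s)) = _
        rw [map_C, map_pow]
      rw [hC]
      congr 1
      refine Finset.sum_congr rfl fun k _ => ?_
      rw [map_mul, map_sum]
      congr 1
      · show MvPolynomial.map φ (pderiv k (g i)) = pderiv k (MvPolynomial.map φ (g i))
        rw [pderiv_map]
      · refine Finset.sum_congr rfl fun j _ => ?_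
        rw [map_mul]
    rwa [h2] at h1

end Groth.Agent.H8.Elkik
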