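import Mathlib
import Groth.Agent.Lib.Helper8.Elkik.Data
import Groth.Agent.Lib.Helper8.Elkik.Main
import Groth.Agent.Lib.Helper8.HensPair.Radical
import Groth.Agent.Lib.Helper8.PairHens.Quotient

set_option autoImplicit false
universe u
open MvPolynomial

namespace Groth.Agent.H8.Elkik

/-- In a noetherian ring the `t`-power torsion is bounded. -/
theorem exists_bounded_torsion {A : Type u} [CommRing A] [IsNoetherianRing A] (t : A) :
    ∃ c₀ : ℕ, ∀ a : A, (∃ m : ℕ, t ^ m * a = 0) → t ^ c₀ * a = 0 := by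
  let f : ℕ →o Ideal A :=
    { toFun := fun n => Submodule.annihilator (Ideal.span {t ^ n})
      monotone' := by
        intro n m hnm
        apply Submodule.annihilator_mono
        exact Ideal.span_singleton_le_span_singleton.mpr (pow_dvd_pow t hnm) }
  obtain ⟨c₀, hc₀⟩ := monotone_stabilizes_iff_noetherian.mpr inferInstance f
  refine ⟨c₀, ?_⟩
  rintro a ⟨m, hm⟩
  have hmem : ∀ n, a ∈ f n ↔ t ^ n * a = 0 := by
    intro n
    show a ∈ Submodule.annihilator (Ideal.span {t ^ n}) ↔ _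
    rw [Submodule.mem_annihilator_span_singleton, smul_eq_mul, mul_comm]
  rw [← hmem]
  by_cases h : m ≤ c₀
  · exact f.monotone h ((hmem m).mpr hm)
  · push Not at h
    rw [hc₀ m h.le]
    exact (hmem m).mpr hm

variable {A : Type u} [CommRing A]

/-- Principal case in data form. -/
theorem exists_exact_principal (t : A) [HenselianRing A (Ideal.span {t})]
    (c₀ : ℕ) (hbd : ∀ a : A, (∃ m : ℕ, t ^ m * a = 0) → t ^ c₀ * a = 0)
    {N : ℕ} (J : Ideal (MvPolynomial (Fin N) A)) (hJ : HasSmoothData J t) :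
    ∃ n₀ ρ : ℕ, ∀ n, n₀ ≤ n → ∀ a : Fin N → A, (∀ p ∈ J, eval a p ∈ Ideal.span {t ^ n}) →
      ∃ a' : Fin N → A, (∀ p ∈ J, eval a' p = 0) ∧ ∀ k, a' k - a k ∈ Ideal.span {t ^ (n - ρ)} := by
  classical
  obtain ⟨m, g, c, s, hgJ, hJg, hrel⟩ := hJ
  refine ⟨6 * s + 1 + c₀, 2 * s, fun n hn a ha => ?_⟩
  obtain ⟨a', ha'g, ha'a⟩ := exists_solution_of_data t c₀ hbd g c s hrel n (by omega) (by omega)
    a (fun i => ha _ (hgJ i))
  refine ⟨a', fun p hp => ?_, ha'a⟩
  have hJ₀a' : ∀ q ∈ Ideal.span (Set.range g), eval a' q = 0 := by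
    intro q hq
    have hle : Ideal.span (Set.range g) ≤ RingHom.ker (eval a') := by
      rw [Ideal.span_le]
      rintro _ ⟨i, rfl⟩
      exact ha'g i
    exact hle hq
  obtain ⟨e, he⟩ := hJg p hp
  have h1 : t ^ e * eval a' p = 0 := by
    have := hJ₀a' _ he
    simpa using this
  have h2 : eval a' p - eval a p ∈ Ideal.span {t ^ (n - 2 * s)} :=
    SmoothLift.eval_sub_eval_mem _ a' a ha'a p
  have h3 : eval a p ∈ Ideal.span {t ^ (n - 2 * s)} :=
    (Ideal.span_singleton_le_span_singleton.mpr (pow_dvd_pow t (Nat.sub_le _ _))) (ha p hp)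
  have h4 : eval a' p ∈ Ideal.span {t ^ (n - 2 * s)} := by
    have := Ideal.add_mem _ h2 h3
    simpa using this
  obtain ⟨z, hz⟩ := Ideal.mem_span_singleton'.mp h4
  have h5 : t ^ c₀ * z = 0 := by
    apply hbd
    refine ⟨e + (n - 2 * s), ?_⟩
    rw [pow_add, mul_assoc, mul_comm _ z, hz, h1]
  have h6 : n - 2 * s = (n - 2 * s - c₀) + c₀ := by omega
  rw [← hz, h6, pow_add, mul_comm z, mul_assoc, h5, mul_zero]

/-- Elkik's approximation theorem for a noetherian henselian pair `(A, I)`, `I = (ts)`, in data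
form (weak form: no linear bound). -/
theorem exists_exact_of_hasSmoothData : ∀ (r : ℕ) (A : Type u) [CommRing A] [IsNoetherianRing A]
    (ts : Fin r → A) (_ : HenselianRing A (Ideal.span (Set.range ts))) {N : ℕ}
    (J : Ideal (MvPolynomial (Fin N) A)) (_ : ∀ j, HasSmoothData J (ts j)) (ν : ℕ),
    ∃ n, ∀ a : Fin N → A, (∀ p ∈ J, eval a p ∈ (Ideal.span (Set.range ts)) ^ n) →
      ∃ a' : Fin N → A, (∀ p ∈ J, eval a' p = 0) ∧
        ∀ k, a' k - a k ∈ (Ideal.span (Set.range ts)) ^ ν := by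
  intro r
  induction r with
  | zero =>
    intro A _ _ ts hH N J hJ ν
    have hI : Ideal.span (Set.range ts) = ⊥ := by
      rw [Ideal.span_eq_bot]
      rintro _ ⟨j, rfl⟩
      exact j.elim0
    refine ⟨1, fun a ha => ⟨a, fun p hp => ?_, fun k => by simp⟩⟩
    have := ha p hp
    rwa [hI, pow_one, Ideal.mem_bot] at this
  | succ r ih =>
    intro A _ _ ts hH N J hJ ν
    classical
    let t : A := ts 0
    let ts' : Fin r → A := fun j => ts j.succ
    obtain ⟨I, hIdef⟩ : ∃ I : Ideal A, I = Ideal.span (Set.range ts) := ⟨_, rfl⟩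
    obtain ⟨I', hI'def⟩ : ∃ I' : Ideal A, I' = Ideal.span (Set.range ts') := ⟨_, rfl⟩
    rw [← hIdef] at hH ⊢
    have htI : t ∈ I := by rw [hIdef]; exact Ideal.subset_span ⟨0, rfl⟩
    have hI'I : I' ≤ I := by
      rw [hIdef, hI'def]
      exact Ideal.span_mono (by rintro _ ⟨j, rfl⟩; exact ⟨j.succ, rfl⟩)
    have hI : I ≤ I' ⊔ Ideal.span {t} := by
      rw [hIdef, Ideal.span_le]
      rintro _ ⟨j, rfl⟩
      induction j using Fin.cases with
      | zero => exact Ideal.mem_sup_right (Ideal.subset_span rfl)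
      | succ j => exact Ideal.mem_sup_left (by rw [hI'def]; exact Ideal.subset_span ⟨j, rfl⟩)
    haveI : HenselianRing A I := hH
    haveI hHt : HenselianRing A (Ideal.span {t}) :=
      HensPair.henselianRing_of_le (I := I) ((Ideal.span_singleton_le_iff_mem _).mpr htI)
    obtain ⟨c₀, hc₀⟩ := exists_bounded_torsion t
    obtain ⟨n₀, ρ, hprinc⟩ := exists_exact_principal t c₀ hc₀ J (hJ 0)
    obtain ⟨m, hm1, hm2⟩ : ∃ m : ℕ, n₀ ≤ m ∧ ν + ρ ≤ m :=
      ⟨max n₀ (ν + ρ), le_max_left _ _, le_max_right _ _⟩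
    let K : Ideal A := Ideal.span {t ^ m}
    let q : A →+* A ⧸ K := Ideal.Quotient.mk K
    have hq : Function.Surjective q := Ideal.Quotient.mk_surjective
    let tsq : Fin r → A ⧸ K := fun j => q (ts' j)
    have hspan : Ideal.span (Set.range tsq) = I'.map q := by
      rw [hI'def, Ideal.map_span, ← Set.range_comp]
      rfl
    have hH' : HenselianRing (A ⧸ K) (Ideal.span (Set.range tsq)) := by
      haveI : HenselianRing (A ⧸ K) (I.map q) :=
        PairHens.henselianRing_map_of_surjective I q hq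
      rw [hspan]
      exact HensPair.henselianRing_of_le (I := I.map q) (Ideal.map_mono hI'I)
    obtain ⟨n', hn'⟩ := ih (A ⧸ K) tsq hH' (J.map (MvPolynomial.map q))
      (fun j => (hJ j.succ).map q) ν
    refine ⟨n' + m, fun a ha => ?_⟩
    have hqa : ∀ p ∈ J.map (MvPolynomial.map q),
        eval (q ∘ a) p ∈ Ideal.span (Set.range tsq) ^ n' := by
      have hle : J.map (MvPolynomial.map q) ≤
          Ideal.comap (eval (q ∘ a)) (Ideal.span (Set.range tsq) ^ n') := by
        rw [Ideal.map_le_iff_le_comap]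
        intro p hp
        rw [Ideal.mem_comap, Ideal.mem_comap, eval_map_comp]
        have h1 := ha p hp
        have h2 : I ^ (n' + m) ≤ I' ^ n' ⊔ Ideal.span {t} ^ m :=
          (Ideal.pow_right_mono hI (n' + m)).trans Ideal.sup_pow_add_le_pow_sup_pow
        have h3 := Ideal.mem_map_of_mem q (h2 h1)
        rw [Ideal.map_sup, Ideal.map_pow, Ideal.span_singleton_pow] at h3
        have h4 : (Ideal.span {t ^ m}).map q = ⊥ := Ideal.map_quotient_self K
        rw [h4, sup_bot_eq, ← hspan] at h3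
        exact h3
      exact fun p hp => hle hp
    obtain ⟨b, hbJ, hba⟩ := hn' (q ∘ a) hqa
    have hδ : ∀ k, ∃ δ ∈ I' ^ ν, q δ = b k - q (a k) := by
      intro k
      have := hba k
      rw [hspan, ← Ideal.map_pow] at this
      exact (Ideal.mem_map_iff_of_surjective q hq).mp this
    choose δ hδI hδq using hδ
    let a₁ : Fin N → A := fun k => a k + δ k
    have ha₁ : q ∘ a₁ = b := by
      funext k
      simp [a₁, hδq]
    have ha₁J : ∀ p ∈ J, eval a₁ p ∈ Ideal.span {t ^ m} := by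
      intro p hp
      rw [← Ideal.Quotient.eq_zero_iff_mem]
      show q (eval a₁ p) = 0
      rw [← eval_map_comp, ha₁]
      exact hbJ _ (Ideal.mem_map_of_mem _ hp)
    obtain ⟨a', ha'J, ha'a₁⟩ := hprinc m hm1 a₁ ha₁J
    refine ⟨a', ha'J, fun k => ?_⟩
    have h1 : a' k - a₁ k ∈ I ^ ν := by
      have hle : Ideal.span {t ^ (m - ρ)} ≤ I ^ ν := by
        rw [Ideal.span_singleton_le_iff_mem]
        have : ν ≤ m - ρ := by omega
        exact Ideal.pow_le_pow_right this (Ideal.pow_mem_pow htI _)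
      exact hle (ha'a₁ k)
    have h2 : δ k ∈ I ^ ν := Ideal.pow_right_mono hI'I ν (hδI k)
    have : a' k - a k = (a' k - a₁ k) + δ k := by simp only [a₁]; ring
    rw [this]
    exact Ideal.add_mem _ h1 h2

end Groth.Agent.H8.Elkik
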