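import Mathlib
import Groth.Agent.Lib.Helper8.Elkik.Data

set_option autoImplicit false
universe u
open MvPolynomial

namespace Groth.Agent.H8.Elkik

variable {A : Type u} [CommRing A]

/-- Unramifiedness data for the ideal `J` after inverting `t`: relations whose Jacobian matrix is
`t ^ s` times the identity modulo `J`. -/
def HasUnramData {N : ℕ} (J : Ideal (MvPolynomial (Fin N) A)) (t : A) : Prop :=
  ∃ (s : ℕ) (p : Fin N → MvPolynomial (Fin N) A), (∀ k, p k ∈ J) ∧
    ∀ k l, (if k = l then C (t ^ s) else 0) - pderiv l (p k) ∈ J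

theorem HasUnramData.map {A' : Type u} [CommRing A'] (φ : A →+* A') {N : ℕ}
    {J : Ideal (MvPolynomial (Fin N) A)} {t : A} (h : HasUnramData J t) :
    HasUnramData (J.map (MvPolynomial.map φ)) (φ t) := by
  obtain ⟨s, p, hp, hrel⟩ := h
  refine ⟨s, fun k => MvPolynomial.map φ (p k), fun k => Ideal.mem_map_of_mem _ (hp k),
    fun k l => ?_⟩
  have h1 := Ideal.mem_map_of_mem (MvPolynomial.map φ) (hrel k l)
  have h2 : MvPolynomial.map φ ((if k = l then C (t ^ s) else 0) - pderiv l (p k)) =
      (if k = l then C (φ t ^ s) else 0) - pderiv l (MvPolynomial.map φ (p k)) := by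
    rw [map_sub, pderiv_map]
    congr 1
    split_ifs
    · rw [map_C, map_pow]
    · rw [map_zero]
  rwa [h2] at h1

theorem hasUnramData_of_unramified (t : A) {B : Type u} [CommRing B] [Algebra A B]
    (Bt : Type u) [CommRing Bt] [Algebra B Bt] [Algebra A Bt] [IsScalarTower A B Bt]
    [IsLocalization.Away (algebraMap A B t) Bt] [Algebra.FormallyUnramified A Bt]
    {N : ℕ} (π : MvPolynomial (Fin N) A →ₐ[A] B) (hπ : Function.Surjective π) :
    HasUnramData (RingHom.ker π.toRingHom) t := by
  classical
  let P : Algebra.Generators A B (Fin N) := Algebra.Generators.ofAlgHom π hπ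
  have hval : (aeval P.val : MvPolynomial (Fin N) A →ₐ[A] B) = π := by
    ext i
    simp [P, Algebra.Generators.ofAlgHom, Algebra.Generators.ofSurjective]
  have hex : ∀ k, ∃ (e : ℕ) (x : MvPolynomial (Fin N) A), π x = 0 ∧
      ∀ j, π (pderiv j x) = if k = j then algebraMap A B (t ^ e) else 0 := by
    intro k
    have h0 : KaehlerDifferential.map A A B Bt (KaehlerDifferential.D A B (P.val k)) = 0 :=
      Subsingleton.elim _ _
    obtain ⟨⟨_, e, rfl⟩, he⟩ := (IsLocalizedModule.eq_zero_iff
      (Submonoid.powers (algebraMap A B t)) (KaehlerDifferential.map A A B Bt)).mp h0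
    have he' : (algebraMap A B t ^ e) • KaehlerDifferential.D A B (P.val k) = 0 := he
    have h1 : P.toExtension.toKaehler ((algebraMap A B t ^ e) • P.cotangentSpaceBasis k) = 0 := by
      rw [map_smul, Algebra.Generators.toKaehler_cotangentSpaceBasis, he']
    obtain ⟨c, hc⟩ := (P.toExtension.exact_cotangentComplex_toKaehler _).mp h1
    obtain ⟨x, rfl⟩ := Algebra.Extension.Cotangent.mk_surjective c
    refine ⟨e, x.1, ?_, fun j => ?_⟩
    · have := x.2
      rw [← hval]
      exact (RingHom.mem_ker).mp this
    · have h2 := congrArg (fun z => P.cotangentSpaceBasis.repr z j) hc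
      simp only [Algebra.Extension.cotangentComplex_mk] at h2
      rw [P.cotangentSpaceBasis_repr_one_tmul] at h2
      rw [← hval, h2]
      simp [Finsupp.single_apply]
  choose e x hx0 hxd using hex
  let s : ℕ := ∑ k, e k
  have hes : ∀ k, e k ≤ s := fun k => Finset.single_le_sum (fun _ _ => Nat.zero_le _)
    (Finset.mem_univ k)
  refine ⟨s, fun k => C (t ^ (s - e k)) * x k, fun k => ?_, fun k l => ?_⟩
  · show π (C (t ^ (s - e k)) * x k) = 0
    rw [map_mul, hx0 k, mul_zero]
  · show π ((if k = l then C (t ^ s) else 0) - pderiv l (C (t ^ (s - e k)) * x k)) = 0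
    rw [pderiv_C_mul, map_sub, map_mul, hxd k l]
    have hC : ∀ a : A, π (C a) = algebraMap A B a := fun a => by
      rw [← MvPolynomial.algebraMap_eq, AlgHom.commutes]
    split_ifs with hkl
    · rw [hC, hC, ← map_mul, ← pow_add, Nat.sub_add_cancel (hes k), sub_self]
    · rw [map_zero, mul_zero, sub_self]

end Groth.Agent.H8.Elkik
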