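import Mathlib
import Groth.Agent.Lib.Helper8.Elkik.Unram
import Groth.Agent.Lib.Helper8.Elkik.Tougeron

set_option autoImplicit false
universe u
open MvPolynomial

namespace Groth.Agent.H8.Elkik

/-- Exact solutions of equations that are unramified outside `V(I)` are isolated in the `I`-adic
topology (noetherian case, `I` in the Jacobson radical). -/
theorem eq_of_hasUnramData {D : Type u} [CommRing D] [IsNoetherianRing D] {r : ℕ} (ts : Fin r → D)
    (hjac : Ideal.span (Set.range ts) ≤ Ideal.jacobson ⊥) {N : ℕ}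
    (J : Ideal (MvPolynomial (Fin N) D)) (hJ : ∀ j, HasUnramData J (ts j)) :
    ∃ ν₀ : ℕ, ∀ a a' : Fin N → D, (∀ p ∈ J, eval a p = 0) → (∀ p ∈ J, eval a' p = 0) →
      (∀ k, a' k - a k ∈ Ideal.span (Set.range ts) ^ ν₀) → a' = a := by
  classical
  choose s p hpJ hrel using hJ
  obtain ⟨I, hIdef⟩ : ∃ I : Ideal D, I = Ideal.span (Set.range ts) := ⟨_, rfl⟩
  rw [← hIdef] at hjac ⊢
  let 𝔮₀ : Ideal D := Ideal.span (Set.range fun j => ts j ^ s j)
  have hrad : I ≤ 𝔮₀.radical := by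
    rw [hIdef, Ideal.span_le]
    rintro _ ⟨j, rfl⟩
    exact ⟨s j, Ideal.subset_span ⟨j, rfl⟩⟩
  obtain ⟨S, hS⟩ := Ideal.exists_pow_le_of_le_radical_of_fg hrad (IsNoetherian.noetherian I)
  let T : Ideal D := Submodule.annihilator (I ^ S)
  obtain ⟨k₀, hk₀⟩ := Ideal.exists_pow_inf_eq_pow_smul I T
  have hT : ∀ n, k₀ + S ≤ n → I ^ n ⊓ T = ⊥ := by
    intro n hn
    have h1 := hk₀ n (by omega)
    simp only [smul_eq_mul, Ideal.mul_top] at h1
    rw [h1, eq_bot_iff]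
    refine (Ideal.mul_mono (Ideal.pow_le_pow_right (show S ≤ n - k₀ by omega)) inf_le_right).trans ?_
    rw [Ideal.mul_le]
    intro x hx y hy
    have := (Submodule.mem_annihilator.mp hy) x hx
    rw [smul_eq_mul] at this
    rw [Ideal.mem_bot, mul_comm, this]
  refine ⟨k₀ + S + 1, fun a a' ha ha' hδ => ?_⟩
  let δ : Fin N → D := fun k => a' k - a k
  let 𝔡 : Ideal D := Ideal.span (Set.range δ)
  have hδ𝔡 : ∀ k, δ k ∈ 𝔡 := fun k => Ideal.subset_span ⟨k, rfl⟩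
  have h𝔡I : 𝔡 ≤ I ^ (k₀ + S + 1) := by
    rw [Ideal.span_le]
    rintro _ ⟨k, rfl⟩
    exact hδ k
  -- `ts j ^ s j * δ k ∈ 𝔡 ^ 2`
  have hkey : ∀ j k, ts j ^ s j * δ k ∈ 𝔡 ^ 2 := by
    intro j k
    have h1 := taylor_mem_sq (R := D) 𝔡 a δ hδ𝔡 (p j k)
    have h2 : (fun k => a k + δ k) = a' := by
      funext k; simp [δ]
    rw [h2] at h1
    have hev : ∀ (x : Fin N → D) (q : MvPolynomial (Fin N) D), aeval x q = eval x q := by
      intro x q
      rw [← coe_aeval_eq_eval]; rfl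
    simp only [hev] at h1
    rw [ha' _ (hpJ j k), ha _ (hpJ j k), sub_zero, zero_sub, neg_mem_iff] at h1
    have h3 : ∀ l, eval a (pderiv l (p j k)) = if k = l then ts j ^ s j else 0 := by
      intro l
      have := ha _ (hrel j k l)
      rw [map_sub, sub_eq_zero] at this
      rw [← this]
      split_ifs
      · rw [eval_C]
      · rw [map_zero]
    simp only [h3] at h1
    simpa using h1
  -- hence `I ^ S * 𝔡 ≤ 𝔡 ^ 2`
  have hS𝔡 : I ^ S * 𝔡 ≤ 𝔡 ^ 2 := by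
    refine (Ideal.mul_mono_left hS).trans ?_
    rw [Ideal.span_mul_span']
    rw [Ideal.span_le]
    rintro _ ⟨_, ⟨j, rfl⟩, _, ⟨k, rfl⟩, rfl⟩
    exact hkey j k
  -- Nakayama: `I ^ S * 𝔡 = ⊥`
  have hM : I ^ S * 𝔡 = ⊥ := by
    apply Submodule.eq_bot_of_le_smul_of_le_jacobson_bot I (I ^ S * 𝔡)
      (IsNoetherian.noetherian _) _ hjac
    calc I ^ S * 𝔡 ≤ 𝔡 ^ 2 := hS𝔡
      _ = 𝔡 * 𝔡 := pow_two 𝔡
      _ ≤ I ^ (k₀ + S + 1) * 𝔡 := Ideal.mul_mono_left h𝔡I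
      _ = I ^ (k₀ + 1) * (I ^ S * 𝔡) := by
        rw [← mul_assoc, ← pow_add]
        congr 2
        omega
      _ ≤ I * (I ^ S * 𝔡) := Ideal.mul_mono_left (Ideal.pow_le_self (by omega))
      _ = I • (I ^ S * 𝔡) := rfl
  have h𝔡T : 𝔡 ≤ T := by
    intro x hx
    rw [Submodule.mem_annihilator]
    intro y hy
    have : y * x ∈ I ^ S * 𝔡 := Ideal.mul_mem_mul hy hx
    rw [hM, Ideal.mem_bot] at this
    rw [smul_eq_mul, mul_comm]
    exact this
  have h𝔡0 : 𝔡 = ⊥ := by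
    rw [eq_bot_iff, ← hT (k₀ + S + 1) (by omega)]
    exact le_inf h𝔡I h𝔡T
  funext k
  have := hδ𝔡 k
  rw [h𝔡0, Ideal.mem_bot] at this
  exact sub_eq_zero.mp this

end Groth.Agent.H8.Elkik
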