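import Mathlib
import Groth.Agent.Lib.Helper8.Elkik.General
import Groth.Agent.Lib.Helper8.Elkik.Isol

set_option autoImplicit false
universe u
open MvPolynomial

namespace Groth.Agent.H8.Elkik

/-- Algebraization of a formal solution: equations smooth and unramified (i.e. étale) outside
`V(I)` over a noetherian henselian pair; a compatible system of approximate solutions converges to
a unique exact solution. -/
theorem existsUnique_exact_of_cauchy {D : Type u} [CommRing D] [IsNoetherianRing D] {r : ℕ}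
    (ts : Fin r → D) (hH : HenselianRing D (Ideal.span (Set.range ts))) {N : ℕ}
    (J : Ideal (MvPolynomial (Fin N) D)) (hJs : ∀ j, HasSmoothData J (ts j))
    (hJu : ∀ j, HasUnramData J (ts j)) (d : ℕ → Fin N → D)
    (hdJ : ∀ n, ∀ p ∈ J, eval (d n) p ∈ Ideal.span (Set.range ts) ^ n)
    (hdd : ∀ n m, n ≤ m → ∀ k, d m k - d n k ∈ Ideal.span (Set.range ts) ^ n) :
    ∃! e : Fin N → D, (∀ p ∈ J, eval e p = 0) ∧
      ∀ n k, e k - d n k ∈ Ideal.span (Set.range ts) ^ n := by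
  classical
  obtain ⟨I, hIdef⟩ : ∃ I : Ideal D, I = Ideal.span (Set.range ts) := ⟨_, rfl⟩
  have hjac : Ideal.span (Set.range ts) ≤ Ideal.jacobson ⊥ := hH.jac
  obtain ⟨ν₀, hν₀⟩ := eq_of_hasUnramData ts hjac J hJu
  have hex : ∀ ν, ∃ e : Fin N → D, (∀ p ∈ J, eval e p = 0) ∧
      ∀ k, e k - d ν k ∈ Ideal.span (Set.range ts) ^ ν := by
    intro ν
    obtain ⟨n, hn⟩ := exists_exact_of_hasSmoothData r D ts hH J hJs ν
    obtain ⟨e, heJ, hed⟩ := hn (d (max n ν)) (fun p hp =>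
      Ideal.pow_le_pow_right (le_max_left n ν) (hdJ _ p hp))
    refine ⟨e, heJ, fun k => ?_⟩
    have h1 := hed k
    have h2 := hdd ν (max n ν) (le_max_right _ _) k
    have : e k - d ν k = (e k - d (max n ν) k) + (d (max n ν) k - d ν k) := by ring
    rw [this]
    exact Ideal.add_mem _ h1 h2
  choose e heJ hed using hex
  have hconst : ∀ ν, ν₀ ≤ ν → e ν = e ν₀ := by
    intro ν hν
    apply hν₀ (e ν₀) (e ν) (heJ ν₀) (heJ ν)
    intro k
    have h1 : e ν k - d ν k ∈ Ideal.span (Set.range ts) ^ ν₀ :=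
      Ideal.pow_le_pow_right hν (hed ν k)
    have h2 := hdd ν₀ ν hν k
    have h3 := hed ν₀ k
    have : e ν k - e ν₀ k = (e ν k - d ν k) + (d ν k - d ν₀ k) - (e ν₀ k - d ν₀ k) := by ring
    rw [this]
    exact Ideal.sub_mem _ (Ideal.add_mem _ h1 h2) h3
  refine ⟨e ν₀, ⟨heJ ν₀, fun n k => ?_⟩, ?_⟩
  · by_cases hn : ν₀ ≤ n
    · rw [← hconst n hn]
      exact hed n k
    · push Not at hn
      have h1 : e ν₀ k - d ν₀ k ∈ Ideal.span (Set.range ts) ^ n :=
        Ideal.pow_le_pow_right hn.le (hed ν₀ k)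
      have h2 := hdd n ν₀ hn.le k
      have : e ν₀ k - d n k = (e ν₀ k - d ν₀ k) + (d ν₀ k - d n k) := by ring
      rw [this]
      exact Ideal.add_mem _ h1 h2
  · rintro e' ⟨he'J, he'd⟩
    apply hν₀ (e ν₀) e' (heJ ν₀) he'J
    intro k
    have : e' k - e ν₀ k = (e' k - d ν₀ k) - (e ν₀ k - d ν₀ k) := by ring
    rw [this]
    exact Ideal.sub_mem _ (he'd ν₀ k) (hed ν₀ k)

end Groth.Agent.H8.Elkik
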