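import Mathlib
import Groth.Prelude.Def_Hens2
import Groth.Agent.Lib.Helper8.Elkik.Alg
import Groth.Agent.Lib.Helper8.PairHens.NoethPair

set_option autoImplicit false
universe u
open MvPolynomial

namespace Groth.Agent.H8.Elkik

theorem eval_eq_mk_iff {R : Type*} [CommRing R] (I : Ideal R) (n : ℕ) (x : AdicCompletion I R)
    (c : R) : AdicCompletion.eval I R n x = Submodule.Quotient.mk c ↔
      AdicCompletion.evalₐ I n x = Ideal.Quotient.mk (I ^ n) c := by
  have h1 : I ^ n ≤ I ^ n • ⊤ := by simp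
  have h2 : (I ^ n • ⊤ : Ideal R) ≤ I ^ n := by simp
  constructor
  · intro h
    rw [← AdicCompletion.factor_eval_eq_evalₐ I x h2, h]
    rfl
  · intro h
    rw [← AdicCompletion.factor_evalₐ_eq_eval I x h1, h]
    rfl

/-- Algebraization of maps of completions into a henselization, for algebras étale outside
`V(I)`. -/
theorem existsUnique_algHom_henselization (A : Type u) [CommRing A] [IsNoetherianRing A]
    (I : Ideal A) (B : Type u) [CommRing B] [Algebra A B] [Algebra.FiniteType A B]
    (hB : ∀ a ∈ I, Algebra.Etale A (Localization.Away (algebraMap A B a)))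
    (C : Type u) [CommRing C] [Algebra A C] [IsNoetherianRing C]
    (Ch : Type u) [CommRing Ch] [Algebra C Ch] [Algebra A Ch] [IsScalarTower A C Ch]
    (hCh : Hens2.IsPairHenselization C (I.map (algebraMap A C)) Ch)
    (φ : (AdicCompletion (I.map (algebraMap A B)) B) →ₐ[A]
      (AdicCompletion (I.map (algebraMap A C)) C)) :
    ∃! ψ : B →ₐ[A] Ch, ∀ (n : ℕ) (b : B), ∃ c : C,
      ψ b - algebraMap C Ch c ∈ (I.map (algebraMap A Ch)) ^ n ∧
      AdicCompletion.eval (I.map (algebraMap A C)) C n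
        (φ (AdicCompletion.of (I.map (algebraMap A B)) B b)) = Submodule.Quotient.mk c := by
  classical
  generalize hIB' : I.map (algebraMap A B) = IB at φ ⊢
  generalize hIC' : I.map (algebraMap A C) = IC at φ hCh ⊢
  have hIB : IB = I.map (algebraMap A B) := hIB'.symm
  have hIC : IC = I.map (algebraMap A C) := hIC'.symm
  -- generators of `I`
  obtain ⟨r, ts, hts⟩ := Submodule.fg_iff_exists_fin_generating_family.mp
    (IsNoetherian.noetherian I)
  have htsI : ∀ j, ts j ∈ I := fun j => hts ▸ Submodule.subset_span ⟨j, rfl⟩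
  -- presentation of `B`
  obtain ⟨N, π, hπ⟩ := Algebra.FiniteType.iff_quotient_mvPolynomial''.mp
    (inferInstance : Algebra.FiniteType A B)
  let JA : Ideal (MvPolynomial (Fin N) A) := RingHom.ker π.toRingHom
  have hs : ∀ j, HasSmoothData JA (ts j) := fun j => by
    haveI := hB (ts j) (htsI j)
    exact hasSmoothData_of_smooth (ts j) (Localization.Away (algebraMap A B (ts j))) π hπ
  have hu : ∀ j, HasUnramData JA (ts j) := fun j => by
    haveI := hB (ts j) (htsI j)
    exact hasUnramData_of_unramified (ts j) (Localization.Away (algebraMap A B (ts j))) π hπ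
  -- the henselization
  haveI : IsNoetherianRing Ch := (Groth.Agent.H8.PairHens.NoethPair.main C IC Ch hCh).1
  let αD : A →+* Ch := algebraMap A Ch
  let tsD : Fin r → Ch := fun j => αD (ts j)
  have hID : Ideal.span (Set.range tsD) = I.map αD := by
    conv_rhs => rw [← hts]
    rw [Ideal.submodule_span_eq, Ideal.map_span, ← Set.range_comp]
    rfl
  have hID' : I.map αD = IC.map (algebraMap C Ch) := by
    rw [hIC, Ideal.map_map, ← IsScalarTower.algebraMap_eq]
  have hH : HenselianRing Ch (Ideal.span (Set.range tsD)) := by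
    rw [hID, hID']; exact hCh.1
  let JD : Ideal (MvPolynomial (Fin N) Ch) := JA.map (MvPolynomial.map αD)
  have hsD : ∀ j, HasSmoothData JD (tsD j) := fun j => (hs j).map αD
  have huD : ∀ j, HasUnramData JD (tsD j) := fun j => (hu j).map αD
  -- the formal solution
  haveI : IsScalarTower A B (AdicCompletion IB B) := IsScalarTower.of_algebraMap_eq (fun a => rfl)
  haveI : IsScalarTower A C (AdicCompletion IC C) := IsScalarTower.of_algebraMap_eq (fun a => rfl)
  let ofB : B →ₐ[A] AdicCompletion IB B := IsScalarTower.toAlgHom A B _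
  have hofB : ∀ b, ofB b = AdicCompletion.of IB B b := fun b => rfl
  let Φ : MvPolynomial (Fin N) A →ₐ[A] AdicCompletion IC C := (φ.comp ofB).comp π
  have hΦ : ∀ p₀, Φ p₀ = φ (AdicCompletion.of IB B (π p₀)) := fun p₀ => rfl
  choose xs hxs using fun k : Fin N => AdicCompletion.mk_surjective IC C (Φ (X k))
  let c : ℕ → Fin N → C := fun n k => (xs k).val n
  have H1 : ∀ n p₀, AdicCompletion.evalₐ IC n (Φ p₀) =
      Ideal.Quotient.mk (IC ^ n) (aeval (c n) p₀) := by
    intro n p₀
    have h : ((AdicCompletion.evalₐ IC n).restrictScalars A).comp Φ =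
        (Ideal.Quotient.mkₐ A (IC ^ n)).comp (aeval (c n)) := by
      apply MvPolynomial.algHom_ext
      intro k
      simp only [AlgHom.comp_apply, aeval_X, Ideal.Quotient.mkₐ_eq_mk]
      show AdicCompletion.evalₐ IC n (Φ (X k)) = _
      rw [← hxs k, AdicCompletion.evalₐ_mk]
    exact DFunLike.congr_fun h p₀
  have hcc : ∀ n m, n ≤ m → ∀ k, c m k - c n k ∈ IC ^ n := by
    intro n m hnm k
    have h1 := (xs k).2 hnm
    rw [SModEq.sub_mem, smul_eq_mul, Ideal.mul_top] at h1
    have h2 := Ideal.neg_mem_iff _ |>.mpr h1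
    rw [neg_sub] at h2
    exact h2
  have hcJ : ∀ n, ∀ p₀ ∈ JA, aeval (c n) p₀ ∈ IC ^ n := by
    intro n p₀ hp₀
    have h1 := H1 n p₀
    have h2 : π p₀ = 0 := hp₀
    rw [hΦ, h2, map_zero, map_zero, map_zero] at h1
    exact Ideal.Quotient.eq_zero_iff_mem.mp h1.symm
  let d : ℕ → Fin N → Ch := fun n k => algebraMap C Ch (c n k)
  have hevd : ∀ n p₀, eval (d n) (MvPolynomial.map αD p₀) = algebraMap C Ch (aeval (c n) p₀) := by
    intro n p₀
    rw [eval_map, ← aeval_def]
    exact (comp_aeval_apply (c n) (IsScalarTower.toAlgHom A C Ch) p₀).symm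
  have hmapC : ∀ n (x : C), x ∈ IC ^ n → algebraMap C Ch x ∈ Ideal.span (Set.range tsD) ^ n := by
    intro n x hx
    rw [hID, hID', ← Ideal.map_pow]
    exact Ideal.mem_map_of_mem _ hx
  have hdJ : ∀ n, ∀ p ∈ JD, eval (d n) p ∈ Ideal.span (Set.range tsD) ^ n := by
    intro n
    have hle : JD ≤ Ideal.comap (eval (d n)) (Ideal.span (Set.range tsD) ^ n) := by
      rw [Ideal.map_le_iff_le_comap]
      intro p₀ hp₀
      rw [Ideal.mem_comap, Ideal.mem_comap, hevd]
      exact hmapC n _ (hcJ n p₀ hp₀)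
    exact fun p hp => hle hp
  have hdd : ∀ n m, n ≤ m → ∀ k, d m k - d n k ∈ Ideal.span (Set.range tsD) ^ n := by
    intro n m hnm k
    show algebraMap C Ch (c m k) - algebraMap C Ch (c n k) ∈ _
    rw [← map_sub]
    exact hmapC n _ (hcc n m hnm k)
  obtain ⟨e, ⟨heJ, hed⟩, huniq⟩ := existsUnique_exact_of_cauchy tsD hH JD hsD huD d hdJ hdd
  have haev : ∀ (x : Fin N → Ch) p₀, eval x (MvPolynomial.map αD p₀) = aeval x p₀ := by
    intro x p₀
    rw [eval_map, ← aeval_def]
  -- the map
  have Hker : RingHom.ker π.toRingHom ≤ RingHom.ker (aeval e : MvPolynomial (Fin N) A →ₐ[A] Ch).toRingHom := by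
    intro p₀ hp₀
    show aeval e p₀ = 0
    rw [← haev]
    exact heJ _ (Ideal.mem_map_of_mem _ hp₀)
  let ψ : B →ₐ[A] Ch := AlgHom.liftOfSurjective π hπ (aeval e) Hker
  have hψ : ∀ p₀, ψ (π p₀) = aeval e p₀ := fun p₀ => AlgHom.liftOfSurjective_apply π hπ _ Hker p₀
  refine ⟨ψ, fun n b => ?_, fun ψ' hψ' => ?_⟩
  · obtain ⟨p₀, rfl⟩ := hπ b
    refine ⟨aeval (c n) p₀, ?_, ?_⟩
    · rw [hψ, ← haev, ← hevd, ← hID]
      exact SmoothLift.eval_sub_eval_mem _ e (d n) (hed n) _
    · rw [eval_eq_mk_iff, ← hΦ]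
      exact H1 n p₀
  · let e' : Fin N → Ch := fun k => ψ' (π (X k))
    have hψ'π : ∀ p₀, ψ' (π p₀) = aeval e' p₀ := by
      intro p₀
      have h : ψ'.comp π = aeval e' := by
        apply MvPolynomial.algHom_ext
        intro k
        simp [e']
      exact DFunLike.congr_fun h p₀
    have he'J : ∀ p ∈ JD, eval e' p = 0 := by
      have hle : JD ≤ RingHom.ker (eval e') := by
        rw [Ideal.map_le_iff_le_comap]
        intro p₀ hp₀
        rw [Ideal.mem_comap, RingHom.mem_ker, haev, ← hψ'π]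
        have h2 : π p₀ = 0 := hp₀
        rw [h2, map_zero]
      exact fun p hp => hle hp
    have he'd : ∀ n k, e' k - d n k ∈ Ideal.span (Set.range tsD) ^ n := by
      intro n k
      obtain ⟨c', hc'1, hc'2⟩ := hψ' n (π (X k))
      rw [eval_eq_mk_iff, ← hΦ, H1, aeval_X] at hc'2
      have h1 : c n k - c' ∈ IC ^ n := Ideal.Quotient.eq.mp hc'2
      have h2 := hmapC n _ h1
      rw [map_sub] at h2
      rw [← hID] at hc'1
      have : e' k - d n k = (ψ' (π (X k)) - algebraMap C Ch c') -
          (algebraMap C Ch (c n k) - algebraMap C Ch c') := by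
        simp only [e', d]; ring
      rw [this]
      exact Ideal.sub_mem _ hc'1 h2
    have hee' : e' = e := huniq e' ⟨he'J, he'd⟩
    ext b
    obtain ⟨p₀, rfl⟩ := hπ b
    rw [hψ'π, hψ, hee']

end Groth.Agent.H8.Elkik
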