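import Mathlib
import Groth.Agent.Lib.Helper8.Elkik.SmoothData
import Groth.Agent.Lib.Helper8.Elkik.Main

set_option autoImplicit false
universe u
open MvPolynomial

namespace Groth.Agent.H8.Elkik

variable {A : Type u} [CommRing A]

/-- Elkik / Gabber–Ramero approximation, principal case, no noetherian hypothesis:
`(A, tA)` henselian with bounded `t`-power torsion, `B` of finite type with `B[1/t]` smooth over
`A` (equivalently over `A[1/t]`).  Every `A`-algebra map `B → Â` is congruent modulo `t ^ n` to an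
`A`-algebra map `B → A`. -/
theorem exists_algHom_approx (t : A) [HenselianRing A (Ideal.span {t})]
    (hbd : ∃ N : ℕ, ∀ a : A, (∃ m : ℕ, t ^ m * a = 0) → t ^ N * a = 0)
    (B : Type u) [CommRing B] [Algebra A B] [Algebra.FiniteType A B]
    (Bt : Type u) [CommRing Bt] [Algebra B Bt] [Algebra A Bt] [IsScalarTower A B Bt]
    [IsLocalization.Away (algebraMap A B t) Bt] [Algebra.Smooth A Bt]
    (n : ℕ) (σ : B →ₐ[A] AdicCompletion (Ideal.span {t}) A) :
    ∃ τ : B →ₐ[A] A,
      (Ideal.Quotient.mkₐ A (Ideal.span {t} ^ n)).comp τ =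
        (AdicCompletion.evalₐ (Ideal.span {t}) n).comp σ := by
  classical
  obtain ⟨c₀, hc₀⟩ := hbd
  obtain ⟨N, π, hπ⟩ := Algebra.FiniteType.iff_quotient_mvPolynomial''.mp
    (inferInstance : Algebra.FiniteType A B)
  obtain ⟨m, g, c, s, hgJ, hJg, hrel⟩ := exists_smooth_data t Bt π hπ
  let n' : ℕ := 4 * s + 1 + c₀ + n + 2 * s
  -- Cauchy sequences representing the images of the variables
  choose xs hxs using fun k : Fin N => AdicCompletion.mk_surjective (Ideal.span {t}) A (σ (π (X k)))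
  let a : Fin N → A := fun k => (xs k).val n'
  -- the approximate solution
  have hcomp : ∀ (l : ℕ) (a₁ : Fin N → A),
      (∀ k, Ideal.Quotient.mk ((Ideal.span {t}) ^ l) (a₁ k) = AdicCompletion.evalₐ (Ideal.span {t}) l (σ (π (X k)))) →
      ∀ p, Ideal.Quotient.mk ((Ideal.span {t}) ^ l) (eval a₁ p) = AdicCompletion.evalₐ (Ideal.span {t}) l (σ (π p)) := by
    intro l a₁ h p
    have h1 : (Ideal.Quotient.mkₐ A ((Ideal.span {t}) ^ l)).comp (aeval a₁) =
        ((AdicCompletion.evalₐ (Ideal.span {t}) l).comp σ).comp π := by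
      apply MvPolynomial.algHom_ext
      intro k
      simp only [AlgHom.comp_apply, aeval_X, Ideal.Quotient.mkₐ_eq_mk]
      exact h k
    have h2 := DFunLike.congr_fun h1 p
    rw [AlgHom.comp_apply, Ideal.Quotient.mkₐ_eq_mk] at h2
    rw [← coe_aeval_eq_eval]
    exact h2
  have ha_n' : ∀ k, Ideal.Quotient.mk ((Ideal.span {t}) ^ n') (a k) =
      AdicCompletion.evalₐ (Ideal.span {t}) n' (σ (π (X k))) := by
    intro k
    rw [← hxs k, AdicCompletion.evalₐ_mk]
  have haJ : ∀ p, π p = 0 → eval a p ∈ Ideal.span {t ^ n'} := by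
    intro p hp
    have h1 := hcomp n' a ha_n' p
    rw [hp, map_zero, map_zero, Ideal.Quotient.eq_zero_iff_mem, Ideal.span_singleton_pow] at h1
    exact h1
  obtain ⟨a', ha'g, ha'a⟩ := exists_solution_of_data t c₀ hc₀ g c s hrel n' (by omega) (by omega)
    a (fun i => haJ _ (hgJ i))
  have hn'c : c₀ ≤ n' - 2 * s := by omega
  have hn'n : n ≤ n' - 2 * s := by omega
  have hJ₀a' : ∀ p ∈ Ideal.span (Set.range g), eval a' p = 0 := by
    intro p hp
    have := eval_mem_of_mem_span g a' ⊥ (fun i => by rw [ha'g i]; exact Ideal.zero_mem _) hp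
    simpa using this
  have hJa' : ∀ p, π p = 0 → eval a' p = 0 := by
    intro p hp
    obtain ⟨e, he⟩ := hJg p hp
    have h1 : t ^ e * eval a' p = 0 := by
      have := hJ₀a' _ he
      simpa using this
    have h2 : eval a' p - eval a p ∈ Ideal.span {t ^ (n' - 2 * s)} :=
      SmoothLift.eval_sub_eval_mem _ a' a ha'a p
    have h3 : eval a p ∈ Ideal.span {t ^ (n' - 2 * s)} :=
      (Ideal.span_singleton_le_span_singleton.mpr (pow_dvd_pow t (Nat.sub_le _ _))) (haJ p hp)
    have h4 : eval a' p ∈ Ideal.span {t ^ (n' - 2 * s)} := by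
      have := Ideal.add_mem _ h2 h3
      simpa using this
    obtain ⟨z, hz⟩ := Ideal.mem_span_singleton'.mp h4
    have h5 : t ^ (e + (n' - 2 * s)) * z = 0 := by
      rw [pow_add, mul_assoc, mul_comm _ z, hz]; exact h1
    have h6 := hc₀ z ⟨_, h5⟩
    rw [← hz]
    have h7 : n' - 2 * s = (n' - 2 * s - c₀) + c₀ := by omega
    rw [h7, pow_add]; linear_combination t ^ (n' - 2 * s - c₀) * h6
  let τ₀ : (MvPolynomial (Fin N) A ⧸ RingHom.ker π.toRingHom) →ₐ[A] A :=
    Ideal.Quotient.liftₐ (RingHom.ker π.toRingHom) (aeval a') (fun p hp => by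
      have : aeval a' p = eval a' p := by rw [← coe_aeval_eq_eval]; rfl
      rw [this]; exact hJa' p hp)
  let e : (MvPolynomial (Fin N) A ⧸ RingHom.ker π.toRingHom) ≃ₐ[A] B :=
    Ideal.quotientKerAlgEquivOfSurjective hπ
  let τ : B →ₐ[A] A := τ₀.comp e.symm.toAlgHom
  have hτ : ∀ p, τ (π p) = eval a' p := by
    intro p
    have h1 : e.symm (π p) = Ideal.Quotient.mk _ p := by
      rw [AlgEquiv.symm_apply_eq]; rfl
    show τ₀ (e.symm (π p)) = _
    rw [h1]
    show aeval a' p = _
    rw [← coe_aeval_eq_eval]; rfl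
  refine ⟨τ, ?_⟩
  have ha'_n : ∀ k, Ideal.Quotient.mk ((Ideal.span {t}) ^ n) (a' k) =
      AdicCompletion.evalₐ (Ideal.span {t}) n (σ (π (X k))) := by
    intro k
    rw [← hxs k, AdicCompletion.evalₐ_mk, Ideal.Quotient.eq]
    have h1 : a' k - a k ∈ (Ideal.span {t}) ^ n := by
      rw [Ideal.span_singleton_pow]
      exact (Ideal.span_singleton_le_span_singleton.mpr (pow_dvd_pow t hn'n)) (ha'a k)
    have h2 : a k - (xs k).val n ∈ (Ideal.span {t}) ^ n := by
      have h3 := (xs k).2 (show n ≤ n' by omega)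
      rw [SModEq.sub_mem, smul_eq_mul, Ideal.mul_top] at h3
      have h4 := ((Ideal.span {t}) ^ n).neg_mem h3
      rwa [neg_sub] at h4
    have := Ideal.add_mem _ h1 h2
    simpa using this
  apply AlgHom.ext
  intro b
  obtain ⟨p, rfl⟩ := hπ b
  show Ideal.Quotient.mk _ (τ (π p)) = AdicCompletion.evalₐ _ n (σ (π p))
  rw [hτ]
  exact hcomp n a' ha'_n p

end Groth.Agent.H8.Elkik
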