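import Mathlib
import Groth.Agent.Lib.Helper8.Elkik.Tougeron

set_option autoImplicit false
universe u
open MvPolynomial

namespace Groth.Agent.H8.Elkik

/-- difference of two commuting idempotents is a root of `x³ = x`. -/
theorem sub_cube_of_idem {R : Type*} [CommRing R] {p q : R} (hp : p * p = p) (hq : q * q = q) :
    (p - q) * (p - q) * (p - q) = p - q := by
  linear_combination (p + 1 - 3 * q) * hp + (3 * p - q - 1) * hq

/-- In a localization `S` of `R`, if `x³ = x` and `x²` is the image of an element `r * y` with `r`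
in the Jacobson radical, then `x = 0`. -/
theorem eq_zero_of_cube {R S : Type*} [CommRing R] [CommRing S] [Algebra R S] {x : S} {r y : R}
    (hr : r ∈ Ideal.jacobson (⊥ : Ideal R)) (hx3 : x * x * x = x)
    (hx2 : x * x = algebraMap R S (r * y)) : x = 0 := by
  have h1 : IsUnit (r * (-y) + 1) := Ideal.mem_jacobson_bot.mp hr (-y)
  have h2 : IsUnit (algebraMap R S (r * (-y) + 1)) := h1.map _
  have h3 : x * algebraMap R S (r * (-y) + 1) = 0 := by
    have : algebraMap R S (r * (-y) + 1) = 1 - x * x := by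
      rw [hx2]; simp only [map_add, map_mul, map_neg, map_one]; ring
    rw [this]
    linear_combination - hx3
  exact (h2.mul_left_eq_zero).mp h3


/-- Solving `x² = t ^ k * x` near an approximate solution. -/
theorem exists_sq_eq {A : Type u} [CommRing A] (t : A) [HenselianRing A (Ideal.span {t})]
    (k n : ℕ) (hn : 4 * k < n) (a : A) (ha : a * a - t ^ k * a ∈ Ideal.span {t ^ n}) :
    ∃ b : A, b * b = t ^ k * b ∧ b - a ∈ Ideal.span {t ^ (n - 2 * k)} := by
  classical
  obtain ⟨z, hz⟩ := Ideal.mem_span_singleton'.mp ha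
  let f : Fin 1 → MvPolynomial (Fin 1) A := fun _ => X 0 * X 0 - C (t ^ k) * X 0
  have hpd : pderiv (0 : Fin 1) (f 0) = X 0 + X 0 - C (t ^ k) := by
    simp only [f, map_sub, Derivation.leibniz, pderiv_X, pderiv_C, smul_eq_mul, Pi.single_eq_same,
      mul_one, mul_zero, add_zero]
  have htn : t ^ n = t ^ k * t ^ k * (t * t ^ (n - 2 * k - 1)) := by
    rw [← pow_add, ← pow_succ', ← pow_add]
    congr 1
    omega
  obtain ⟨b, hb, hba⟩ := exists_solution_of_tougeron t 1 f (fun _ => a)
    (fun _ _ => a + a - t ^ k) (fun _ _ => 4 * t ^ (n - 2 * k - 1) * z) (2 * k) n (by omega)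
    (by
      intro i j
      have hi : i = 0 := Subsingleton.elim _ _
      have hj : j = 0 := Subsingleton.elim _ _
      subst hi; subst hj
      rw [Fin.sum_univ_one, hpd]
      simp only [map_sub, map_add, eval_X, eval_C, if_pos]
      have h1 : (a + a - t ^ k) * (a + a - t ^ k) = t ^ k * t ^ k + 4 * (z * t ^ n) := by
        rw [hz]; ring
      rw [h1, htn, two_mul, pow_add]
      ring)
    (by
      intro i
      have hi : i = 0 := Subsingleton.elim _ _
      subst hi
      simp only [f, map_sub, map_mul, eval_X, eval_C]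
      exact ha)
  refine ⟨b 0, ?_, hba 0⟩
  have := hb 0
  simp only [f, map_sub, map_mul, eval_X, eval_C] at this
  linear_combination this


/-- Idempotents of `Â[1/t]` come from unique idempotents of `A[1/t]` for a henselian pair
`(A, tA)`. -/
theorem existsUnique_idempotent_away {A : Type u} [CommRing A] (t : A)
    [HenselianRing A (Ideal.span {t})]
    (e : Localization.Away (algebraMap A (AdicCompletion (Ideal.span {t}) A) t))
    (he : IsIdempotentElem e) :
    ∃! e₀ : Localization.Away t, IsIdempotentElem e₀ ∧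
      Localization.awayMap (algebraMap A (AdicCompletion (Ideal.span {t}) A)) t e₀ = e := by
  classical
  have hfg : (Ideal.span {t} : Ideal A).FG := ⟨{t}, by simp⟩
  have htjac : t ∈ Ideal.jacobson (⊥ : Ideal A) :=
    HenselianRing.jac (R := A) (I := Ideal.span {t}) (Ideal.subset_span rfl)
  let Â := AdicCompletion (Ideal.span {t}) A
  let t' : Â := algebraMap A Â t
  have ht'jac : t' ∈ Ideal.jacobson (⊥ : Ideal Â) := by
    haveI := AdicCompletion.isAdicComplete_self (Ideal.span {t}) hfg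
    exact IsAdicComplete.le_jacobson_bot ((Ideal.span {t}).map (algebraMap A Â))
      (Ideal.mem_map_of_mem _ (Ideal.subset_span rfl))
  let L := Localization.Away t
  let L' := Localization.Away t'
  let φ : L →+* L' := Localization.awayMap (algebraMap A Â) t
  have hφalg : ∀ x : A, φ (algebraMap A L x) = algebraMap Â L' (algebraMap A Â x) := by
    intro x
    exact IsLocalization.map_eq _ x
  set u : L' := algebraMap Â L' t' with hu
  set v : L := algebraMap A L t with hv
  have huu : IsUnit u := IsLocalization.Away.algebraMap_isUnit t'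
  have hvu : IsUnit v := IsLocalization.Away.algebraMap_isUnit t
  have hφv : φ v = u := hφalg t
  have hevt : ∀ l, AdicCompletion.evalₐ (Ideal.span {t}) l t' = Ideal.Quotient.mk _ t := by
    intro l
    exact (AdicCompletion.evalₐ (Ideal.span {t}) l).commutes t
  have hevalg : ∀ l (x : A), AdicCompletion.evalₐ (Ideal.span {t}) l (algebraMap A Â x) =
      Ideal.Quotient.mk _ x := by
    intro l x
    exact (AdicCompletion.evalₐ (Ideal.span {t}) l).commutes x
  -- existence
  obtain ⟨k, a0, hk⟩ := IsLocalization.Away.surj t' e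
  change e * u ^ k = algebraMap Â L' a0 at hk
  have h2 : algebraMap Â L' (a0 * a0 - t' ^ k * a0) = 0 := by
    rw [map_sub, map_mul, map_mul, map_pow, ← hk, ← hu]
    linear_combination (u ^ k * u ^ k) * he.eq
  obtain ⟨⟨_, j, rfl⟩, hj⟩ := (IsLocalization.map_eq_zero_iff (Submonoid.powers t') L' _).mp h2
  simp only at hj
  obtain ⟨a₁, ha₁def⟩ : ∃ a₁ : Â, a₁ = t' ^ j * a0 := ⟨_, rfl⟩
  obtain ⟨k₁, hk₁⟩ : ∃ k₁ : ℕ, k₁ = k + j := ⟨_, rfl⟩
  have ha₁ : a₁ * a₁ = t' ^ k₁ * a₁ := by
    rw [ha₁def, hk₁, pow_add]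
    linear_combination t' ^ j * hj
  have he₁ : e * u ^ k₁ = algebraMap Â L' a₁ := by
    rw [hk₁, pow_add, ← mul_assoc, hk, ha₁def, map_mul, map_pow, ← hu]
    ring
  -- approximate
  obtain ⟨n, hn⟩ : ∃ n : ℕ, n = 4 * k₁ + 1 := ⟨_, rfl⟩
  obtain ⟨xs, hxs⟩ := AdicCompletion.mk_surjective (Ideal.span {t}) A a₁
  let a : A := xs.val n
  have hmk : ∀ l, l ≤ n → AdicCompletion.evalₐ (Ideal.span {t}) l a₁ =
      Ideal.Quotient.mk (Ideal.span {t} ^ l) a := by
    intro l hl
    rw [← hxs, AdicCompletion.evalₐ_mk, Ideal.Quotient.eq]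
    have h3 := xs.2 hl
    rw [SModEq.sub_mem, smul_eq_mul, Ideal.mul_top] at h3
    exact h3
  have ha : a * a - t ^ k₁ * a ∈ Ideal.span {t ^ n} := by
    rw [← Ideal.span_singleton_pow, ← Ideal.Quotient.eq_zero_iff_mem, map_sub, map_mul, map_mul,
      map_pow, ← hmk n le_rfl, ← hevt n, ← map_pow, ← map_mul, ← map_mul, ← map_sub, ha₁, sub_self,
      map_zero]
  obtain ⟨b, hbb, hba⟩ := exists_sq_eq t k₁ n (by omega) a ha
  let e₀ : L := IsLocalization.mk' L b (⟨t ^ k₁, k₁, rfl⟩ : Submonoid.powers t)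
  have he₀ : e₀ * v ^ k₁ = algebraMap A L b := by
    have := IsLocalization.mk'_spec L b (⟨t ^ k₁, k₁, rfl⟩ : Submonoid.powers t)
    simpa [hv] using this
  have he₀idem : e₀ * e₀ = e₀ := by
    have h3 : (e₀ * e₀ - e₀) * (v ^ k₁ * v ^ k₁) = 0 := by
      have h4 : algebraMap A L (b * b) = algebraMap A L (t ^ k₁ * b) := by rw [hbb]
      rw [map_mul, map_mul, map_pow, ← he₀, ← hv] at h4
      linear_combination h4
    have h5 : IsUnit (v ^ k₁ * v ^ k₁) := (hvu.pow _).mul (hvu.pow _)
    exact sub_eq_zero.mp ((h5.mul_left_eq_zero).mp h3)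
  -- `φ e₀ = e`
  have hφe₀ : φ e₀ = e := by
    obtain ⟨x, hx⟩ : ∃ x : L', x = φ e₀ - e := ⟨_, rfl⟩
    have hxu : x * u ^ k₁ = algebraMap Â L' (algebraMap A Â b - a₁) := by
      rw [hx, sub_mul, he₁, map_sub, ← hφalg, ← he₀, map_mul, map_pow, hφv]
    -- `b̂ - a₁` is divisible by `t'^(n - 2k₁)`
    have h3 : AdicCompletion.evalₐ (Ideal.span {t}) (n - 2 * k₁) (algebraMap A Â b - a₁) = 0 := by
      rw [map_sub, hevalg, hmk _ (Nat.sub_le _ _), ← map_sub, Ideal.Quotient.eq_zero_iff_mem,
        Ideal.span_singleton_pow]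
      exact hba
    have h4 : algebraMap A Â b - a₁ ∈
        (AdicCompletion.eval (Ideal.span {t}) A (n - 2 * k₁)).ker := by
      rw [LinearMap.mem_ker, ← AdicCompletion.factor_evalₐ_eq_eval _ _
        (le_of_eq (by simp)), h3, map_zero]
    rw [← AdicCompletion.pow_smul_top_eq_ker_eval hfg, Ideal.span_singleton_pow,
      Submodule.ideal_span_singleton_smul] at h4
    obtain ⟨c', -, hc'⟩ := (Submodule.mem_smul_pointwise_iff_exists _ _ _).mp h4
    have h5 : algebraMap A Â b - a₁ = t' ^ (n - 2 * k₁) * c' := by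
      rw [← hc', Algebra.smul_def, map_pow]
    have h6 : n - 2 * k₁ = k₁ + (1 + (n - 3 * k₁ - 1)) := by omega
    have h7 : x = algebraMap Â L' (t' * (t' ^ (n - 3 * k₁ - 1) * c')) := by
      have h8 : (x - algebraMap Â L' (t' * (t' ^ (n - 3 * k₁ - 1) * c'))) * u ^ k₁ = 0 := by
        rw [sub_mul, hxu, h5, h6, pow_add, pow_add, pow_one]
        simp only [map_mul, map_pow, ← hu]
        ring
      exact sub_eq_zero.mp (((huu.pow k₁).mul_left_eq_zero).mp h8)
    have hx3 : x * x * x = x := by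
      rw [hx]
      refine sub_cube_of_idem ?_ he.eq
      rw [← map_mul, he₀idem]
    have hx0 : x = 0 := by
      refine eq_zero_of_cube (r := t')
        (y := (t' ^ (n - 3 * k₁ - 1) * c') * (t' * (t' ^ (n - 3 * k₁ - 1) * c'))) ht'jac hx3 ?_
      rw [h7, ← map_mul]
      congr 1
      ring
    exact sub_eq_zero.mp (hx ▸ hx0)
  refine ⟨e₀, ⟨he₀idem, hφe₀⟩, ?_⟩
  rintro e₁ ⟨he₁idem, hφe₁⟩
  -- uniqueness
  obtain ⟨x, hx⟩ : ∃ x : L, x = e₁ - e₀ := ⟨_, rfl⟩
  have hφx : φ x = 0 := by rw [hx, map_sub, hφe₁, hφe₀, sub_self]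
  have hx3 : x * x * x = x := by
    rw [hx]; exact sub_cube_of_idem he₁idem.eq he₀idem
  obtain ⟨k', a', hk'⟩ := IsLocalization.Away.surj t x
  change x * v ^ k' = algebraMap A L a' at hk'
  have h3 : algebraMap Â L' (algebraMap A Â a') = 0 := by
    rw [← hφalg, ← hk', map_mul, hφx, zero_mul]
  obtain ⟨⟨_, j', rfl⟩, hj'⟩ := (IsLocalization.map_eq_zero_iff (Submonoid.powers t') L' _).mp h3
  simp only at hj'
  have h4 : algebraMap A Â (t ^ j' * a') = 0 := by
    rw [map_mul, map_pow]; exact hj'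
  obtain ⟨K, hK⟩ : ∃ K : ℕ, K = k' + j' := ⟨_, rfl⟩
  have h5 : t ^ j' * a' ∈ Ideal.span {t ^ (2 * K + 1)} := by
    rw [← Ideal.span_singleton_pow, ← Ideal.Quotient.eq_zero_iff_mem, ← hevalg (2 * K + 1), h4,
      map_zero]
  obtain ⟨w, hw⟩ := Ideal.mem_span_singleton'.mp h5
  have hxK : x * v ^ K = algebraMap A L (t ^ j' * a') := by
    rw [hK, pow_add, ← mul_assoc, hk', map_mul, map_pow, ← hv]; ring
  have hx2 : x * x = algebraMap A L (t * ((t ^ j' * a') * w)) := by
    have h6 : (x * x - algebraMap A L (t * ((t ^ j' * a') * w))) * (v ^ K * v ^ K) = 0 := by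
      have h7 : algebraMap A L ((t ^ j' * a') * (w * t ^ (2 * K + 1))) =
          algebraMap A L (t ^ j' * a') * algebraMap A L (t ^ j' * a') := by
        rw [hw, map_mul]
      rw [← hxK] at h7
      have h8 : algebraMap A L ((t ^ j' * a') * (w * t ^ (2 * K + 1))) =
          algebraMap A L (t * ((t ^ j' * a') * w)) * (v ^ K * v ^ K) := by
        rw [hv, ← map_pow, ← map_mul, ← map_mul]
        congr 1
        rw [pow_succ, two_mul, pow_add]; ring
      linear_combination h8 - h7
    exact sub_eq_zero.mp ((((hvu.pow K).mul (hvu.pow K)).mul_left_eq_zero).mp h6)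
  have hx0 : x = 0 := eq_zero_of_cube htjac hx3 hx2
  exact sub_eq_zero.mp (hx ▸ hx0)

end Groth.Agent.H8.Elkik
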