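/-
Helper8 library: one-variable Newton–Tougeron lemma for a principal henselian pair.
-/
import Mathlib
import Groth.Agent.Lib.Helper8.Elkik.Tougeron

open Polynomial

namespace Groth.Agent.H8.Elkik

universe u

section toMv

variable {A : Type u} [CommRing A]

/-- A one-variable polynomial as a polynomial in `Fin 1` variables. -/
noncomputable def toMv (p : A[X]) : MvPolynomial (Fin 1) A :=
  Polynomial.aeval (MvPolynomial.X (0 : Fin 1)) p

theorem eval_toMv (a : Fin 1 → A) (p : A[X]) : MvPolynomial.eval a (toMv p) = p.eval (a 0) := by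
  rw [toMv, ← MvPolynomial.coe_aeval_eq_eval, RingHom.coe_coe, ← Polynomial.aeval_algHom_apply,
    MvPolynomial.aeval_X, Polynomial.coe_aeval_eq_eval]

theorem pderiv_toMv (p : A[X]) :
    MvPolynomial.pderiv (0 : Fin 1) (toMv p) = toMv (derivative p) := by
  induction p using Polynomial.induction_on' with
  | add p q hp hq => simp only [toMv, map_add, derivative_add] at hp hq ⊢; rw [hp, hq]
  | monomial n a =>
    simp only [toMv, Polynomial.aeval_monomial, derivative_monomial, MvPolynomial.algebraMap_eq]
    rw [MvPolynomial.pderiv_C_mul, Derivation.leibniz_pow, MvPolynomial.pderiv_X_self]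
    simp only [smul_eq_mul, mul_one, nsmul_eq_mul, map_mul, map_natCast]
    ring

end toMv

/-- One-variable Tougeron lemma: if `F'(a) w = t (1 + t z)` and `F(a) ∈ (t^k)` with `k ≥ 3`, then
`F` has a root congruent to `a` modulo `t^(k-1)`. -/
theorem exists_root_of_tougeron {A : Type u} [CommRing A] (t : A)
    [HenselianRing A (Ideal.span {t})] (F : A[X]) (a w z : A) (k : ℕ) (hk : 2 < k)
    (hw : F.derivative.eval a * w = t * (1 + t * z)) (hF : F.eval a ∈ Ideal.span {t ^ k}) :
    ∃ a' : A, F.eval a' = 0 ∧ a' - a ∈ Ideal.span {t ^ (k - 1)} := by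
  obtain ⟨a', ha', haa'⟩ := exists_solution_of_tougeron t (ι := Fin 1) 1 (fun _ => toMv F)
    (fun _ => a) (fun _ _ => w) (fun _ _ => z) 1 k (by omega)
    (by
      intro i j
      simp only [Finset.univ_unique, Fin.default_eq_zero, Finset.sum_singleton, pow_one]
      rw [pderiv_toMv, eval_toMv, hw, Subsingleton.elim i j, if_pos rfl])
    (by
      intro i
      rw [eval_toMv]
      exact hF)
  refine ⟨a' 0, ?_, haa' 0⟩
  have := ha' 0
  rwa [eval_toMv] at this

end Groth.Agent.H8.Elkik
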